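/-
Lubin–Tate lemma: for `f = π T + T^q` and prescribed linear part there is a unique series `g` in finitely
many variables with `f ∘ g = g ∘ (f, …, f)`.
-/
import Mathlib

set_option autoImplicit false

namespace Groth.Agent.LubinTateLib

open MvPowerSeries Finsupp

variable {O : Type*} [CommRing O] [IsDomain O] [IsDiscreteValuationRing O] {σ : Type*} [Finite σ]
  (π : O) (q : ℕ)

/-- `f(X_i)` -/
noncomputable def aS (i : σ) : MvPowerSeries σ O := π • X i + X i ^ q

/-- `f ∘ g - g ∘ f` -/
noncomputable def E (g : MvPowerSeries σ O) : MvPowerSeries σ O :=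
  π • g + g ^ q - MvPowerSeries.subst (aS π q) g

variable {π q}

omit [IsDomain O] [IsDiscreteValuationRing O] [Finite σ] in
theorem aS_const (hq : q ≠ 0) (i : σ) : constantCoeff (aS π q i : MvPowerSeries σ O) = 0 := by
  simp [aS, hq, constantCoeff_smul]

omit [IsDomain O] [IsDiscreteValuationRing O] in
theorem aS_hasSubst (hq : q ≠ 0) : HasSubst (aS (σ := σ) π q) :=
  hasSubst_of_constantCoeff_zero (aS_const hq)

omit [IsDomain O] [IsDiscreteValuationRing O] [Finite σ] in
theorem aS_prod (hq : 2 ≤ q) (m : σ →₀ ℕ) :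
    ∃ U : MvPowerSeries σ O, constantCoeff U = π ^ m.degree ∧
      (m.prod fun s e => (aS π q s) ^ e) = monomial m (1 : O) * U := by
  classical
  have hU : ∀ s : σ, aS π q s = X s * (C π + (X s : MvPowerSeries σ O) ^ (q - 1)) := by
    intro s
    have h : (X s : MvPowerSeries σ O) * X s ^ (q - 1) = X s ^ q := by
      rw [← pow_succ', show q - 1 + 1 = q by omega]
    rw [aS, mul_add, h, smul_eq_C_mul, mul_comm]
  refine ⟨m.prod fun s e => (C π + (X s : MvPowerSeries σ O) ^ (q - 1)) ^ e, ?_, ?_⟩
  · simp only [Finsupp.prod, map_prod, map_pow, map_add, constantCoeff_C, constantCoeff_X,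
      zero_pow (show q - 1 ≠ 0 by omega), add_zero, Finset.prod_pow_eq_pow_sum, Finsupp.degree]
    rfl
  · have hmon : ∀ t : Finset σ, (∏ s ∈ t, (X s : MvPowerSeries σ O) ^ m s) =
        monomial (∑ s ∈ t, single s (m s)) 1 := by
      intro t
      induction t using Finset.induction_on with
      | empty => simp [monomial_zero_one]
      | insert s t hs ih => rw [Finset.prod_insert hs, Finset.sum_insert hs, ih, X_pow_eq, monomial_mul_monomial, one_mul]
    simp only [Finsupp.prod, hU, mul_pow, Finset.prod_mul_distrib, hmon]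
    rw [show (∑ s ∈ m.support, single s (m s)) = m from Finsupp.sum_single m]

omit [IsDomain O] [IsDiscreteValuationRing O] in
theorem coeff_subst_low (hq : 2 ≤ q) {n : ℕ} (h : MvPowerSeries σ O)
    (hh : ∀ m : σ →₀ ℕ, m.degree < n → coeff m h = 0) (d : σ →₀ ℕ) (hd : d.degree ≤ n) :
    coeff d (MvPowerSeries.subst (aS π q) h) = π ^ n * coeff d h := by
  classical
  rw [coeff_subst (aS_hasSubst (by omega)), finsum_eq_single _ d]
  · obtain ⟨U, hU, hprod⟩ := aS_prod (π := π) hq d
    rw [hprod, coeff_monomial_mul, if_pos le_rfl, tsub_self, one_mul,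
      coeff_zero_eq_constantCoeff_apply, hU, smul_eq_mul]
    rcases lt_or_eq_of_le hd with hlt | heq
    · simp [hh d hlt]
    · rw [heq, mul_comm]
  · intro m hm
    by_cases hmd : m.degree < n
    · simp [hh m hmd]
    · obtain ⟨U, -, hprod⟩ := aS_prod (π := π) hq m
      rw [hprod, coeff_monomial_mul, if_neg, smul_zero]
      intro hle
      obtain ⟨c, rfl⟩ := exists_add_of_le hle
      rw [map_add] at hd
      have : c.degree = 0 := by omega
      rw [Finsupp.degree_eq_zero_iff] at this
      exact hm (by simp [this])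

omit [IsDomain O] [IsDiscreteValuationRing O] [Finite σ] in
theorem coeff_pow_low (hq : 2 ≤ q) {n : ℕ} (g h : MvPowerSeries σ O) (hg : constantCoeff g = 0)
    (hh0 : constantCoeff h = 0)
    (hh : ∀ m : σ →₀ ℕ, m.degree < n → coeff m h = 0) (d : σ →₀ ℕ) (hd : d.degree ≤ n) :
    coeff d ((g + h) ^ q) = coeff d (g ^ q) := by
  rw [← sub_eq_zero, ← map_sub, ← geom_sum₂_mul, show g + h - g = h by ring]
  refine coeff_of_lt_order (lt_of_lt_of_le ?_ (le_order_mul))
  have h1 : (n : ℕ∞) ≤ h.order := nat_le_order hh
  have h2 : (1 : ℕ∞) ≤ (∑ i ∈ Finset.range q, (g + h) ^ i * g ^ (q - 1 - i)).order := by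
    rw [one_le_order_iff_constCoeff_eq_zero, map_sum]
    refine Finset.sum_eq_zero fun i hi => ?_
    rcases Nat.eq_zero_or_pos i with rfl | hi0
    · simp [hg, zero_pow (show q - 1 ≠ 0 by omega)]
    · simp [hg, hh0, zero_pow hi0.ne']
  calc (d.degree : ℕ∞) < 1 + (n : ℕ∞) := by
        rw [← Nat.cast_one, ← Nat.cast_add, Nat.cast_lt]; omega
    _ ≤ _ := add_le_add h2 h1

omit [IsDomain O] [IsDiscreteValuationRing O] in
theorem E_add (hq : 2 ≤ q) {n : ℕ} (g h : MvPowerSeries σ O) (hg : constantCoeff g = 0)
    (hh0 : constantCoeff h = 0)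
    (hh : ∀ m : σ →₀ ℕ, m.degree < n → coeff m h = 0) (d : σ →₀ ℕ) (hd : d.degree ≤ n) :
    coeff d (E π q (g + h)) = coeff d (E π q g) + (π - π ^ n) * coeff d h := by
  simp only [E, map_sub, map_add, subst_add (aS_hasSubst (show q ≠ 0 by omega)), smul_add,
    coeff_pow_low hq g h hg hh0 hh d hd, coeff_subst_low hq h hh d hd, coeff_smul, smul_eq_mul]
  ring

variable [Finite (IsLocalRing.ResidueField O)]

theorem two_le_card : 2 ≤ Nat.card (IsLocalRing.ResidueField O) :=
  Finite.one_lt_card

theorem pi_dvd_E (hπ : Irreducible π) (g : MvPowerSeries σ O) (d : σ →₀ ℕ) :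
    π ∣ coeff d (E π (Nat.card (IsLocalRing.ResidueField O)) g) := by
  set q := Nat.card (IsLocalRing.ResidueField O) with hq
  have hq2 : 2 ≤ q := two_le_card
  let _ : Fintype (IsLocalRing.ResidueField O) := Fintype.ofFinite _
  obtain ⟨p, hp⟩ := CharP.exists (IsLocalRing.ResidueField O)
  obtain ⟨r, hpr, hr⟩ := FiniteField.card (IsLocalRing.ResidueField O) p
  have : ExpChar (IsLocalRing.ResidueField O) p := ExpChar.prime hpr
  have hres : IsLocalRing.residue O π = 0 :=
    (IsLocalRing.residue_eq_zero_iff π).2 (by rw [hπ.maximalIdeal_eq]; exact Ideal.mem_span_singleton_self π)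
  have key : MvPowerSeries.map (IsLocalRing.residue O) (E π q g) = 0 := by
    set gb := MvPowerSeries.map (IsLocalRing.residue O) g
    have h1 : MvPowerSeries.map (IsLocalRing.residue O) (π • g) = 0 := by
      ext m; simp [hres]
    have h2 : (fun i : σ => MvPowerSeries.map (IsLocalRing.residue O) (aS π q i)) =
        fun i => (X i : MvPowerSeries σ (IsLocalRing.ResidueField O)) ^ q := by
      funext i
      rw [aS, smul_eq_C_mul, map_add, map_mul, map_pow, map_C, hres]
      simp [map_X]
    rw [E, map_sub, map_add, h1, zero_add, map_pow, map_subst (aS_hasSubst (by omega)), h2, sub_eq_zero]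
    have hq' : q = p ^ (r : ℕ) := by rw [hq, Nat.card_eq_fintype_card, hr]
    have h3 := map_iterateFrobenius_expand p hpr.ne_zero gb r
    have hid : iterateFrobenius (IsLocalRing.ResidueField O) p r = RingHom.id _ := by
      ext x
      rw [iterateFrobenius_def, ← hr, FiniteField.pow_card]
      rfl
    rw [hid, MvPowerSeries.map_id, RingHom.id_apply] at h3
    rw [hq', ← h3, expand, coe_substAlgHom]

  have := congrArg (coeff d) key
  rw [coeff_map, map_zero, IsLocalRing.residue_eq_zero_iff, hπ.maximalIdeal_eq,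
    Ideal.mem_span_singleton] at this
  exact this

theorem isUnit_one_sub (hπ : Irreducible π) {n : ℕ} (hn : 2 ≤ n) : IsUnit (1 - π ^ (n - 1)) := by
  refine IsLocalRing.isUnit_one_sub_self_of_mem_nonunits _ ?_
  intro hu
  exact hπ.not_isUnit ((isUnit_pow_iff (by omega)).1 hu)

omit [IsDomain O] [IsDiscreteValuationRing O] [Finite σ] [Finite (IsLocalRing.ResidueField O)] in
theorem degree_le_one (d : σ →₀ ℕ) (h : d.degree ≤ 1) : d = 0 ∨ ∃ i, d = single i 1 := by
  classical
  by_cases h0 : d = 0
  · exact Or.inl h0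
  · obtain ⟨i, hi⟩ : ∃ i, d i ≠ 0 := by
      by_contra! hall
      exact h0 (Finsupp.ext hall)
    obtain ⟨c, rfl⟩ := exists_add_of_le (show single i 1 ≤ d by
      rw [Finsupp.single_le_iff]; omega)
    rw [map_add, Finsupp.degree_single] at h
    have hc : c = 0 := (Finsupp.degree_eq_zero_iff c).1 (by omega)
    exact Or.inr ⟨i, by rw [hc, add_zero]⟩

/-- The Lubin–Tate lemma. -/
theorem existsUnique_series (hπ : Irreducible π) (L : σ → O) :
    ∃! g : MvPowerSeries σ O, constantCoeff g = 0 ∧ (∀ i, coeff (single i 1) g = L i) ∧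
      E π (Nat.card (IsLocalRing.ResidueField O)) g = 0 := by
  classical
  set q := Nat.card (IsLocalRing.ResidueField O) with hq
  have hq2 : 2 ≤ q := two_le_card
  choose u hu using fun (g : MvPowerSeries σ O) (d : σ →₀ ℕ) => pi_dvd_E hπ g d
  let cor : ℕ → MvPowerSeries σ O → MvPowerSeries σ O := fun n g d =>
    if d.degree = n then -(u g d * Ring.inverse (1 - π ^ (n - 1))) else 0
  let g1 : MvPowerSeries σ O := fun d =>
    if h : ∃ i, d = single i 1 then L h.choose else 0
  let G : ℕ → MvPowerSeries σ O := fun n => Nat.rec g1 (fun k gk => gk + cor (k + 2) gk) n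
  have hG0 : ∀ n, constantCoeff (G n) = 0 := by
    intro n
    induction n with
    | zero =>
      change g1 0 = 0
      simp only [g1]
      rw [dif_neg]
      rintro ⟨i, hi⟩
      simpa using congrArg Finsupp.degree hi
    | succ n ih =>
      change constantCoeff (G n + cor (n + 2) (G n)) = 0
      rw [map_add, ih, zero_add]
      change cor (n + 2) (G n) 0 = 0
      simp [cor]
  have hcor : ∀ n g m, Finsupp.degree m < n → coeff m (cor n g) = 0 := by
    intro n g m hm
    change cor n g m = 0
    simp [cor, Nat.ne_of_lt hm]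
  have hcor0 : ∀ n g, constantCoeff (cor (n + 2) g) = 0 := fun n g => hcor (n + 2) g 0 (by simp)
  have hE : ∀ n, ∀ d : σ →₀ ℕ, d.degree ≤ n + 1 → coeff d (E π q (G n)) = 0 := by
    intro n
    induction n with
    | zero =>
      intro d hd
      simp only [E, map_sub, map_add, coeff_smul, smul_eq_mul]
      rw [coeff_subst_low hq2 (n := 1) _ (fun m hm => ?_) d hd]
      · have : coeff d ((G 0) ^ q) = 0 := by
          refine coeff_of_lt_order (lt_of_lt_of_le ?_ (le_order_pow_of_constantCoeff_eq_zero q (hG0 0)))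
          rw [Nat.cast_lt]; omega
        rw [this, pow_one]; ring
      · rw [Nat.lt_one_iff, Finsupp.degree_eq_zero_iff] at hm
        subst hm
        exact hG0 0
    | succ n ih =>
      intro d hd
      change coeff d (E π q (G n + cor (n + 2) (G n))) = 0
      rw [E_add hq2 (n := n + 2) _ _ (hG0 n) (hcor0 n _) (hcor _ _) d (by omega)]
      rcases lt_or_eq_of_le hd with hlt | heq
      · rw [ih d (by omega), hcor _ _ d (by omega), mul_zero, add_zero]
      · have hv : coeff d (cor (n + 2) (G n)) = -(u (G n) d * Ring.inverse (1 - π ^ (n + 2 - 1))) := by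
          change cor (n + 2) (G n) d = _
          simp [cor, heq]
        rw [hv, hu (G n) d, show n + 2 - 1 = n + 1 by omega]
        have h1 : (1 - π ^ (n + 1)) * Ring.inverse (1 - π ^ (n + 1)) = 1 :=
          Ring.mul_inverse_cancel _ (by simpa using isUnit_one_sub hπ (show 2 ≤ n + 2 by omega))
        linear_combination (-(π * u (G n) d)) * h1
  have hstab : ∀ n k, ∀ d : σ →₀ ℕ, d.degree ≤ n + 1 → coeff d (G (n + k)) = coeff d (G n) := by
    intro n k
    induction k with
    | zero => intro d _; rfl
    | succ k ih =>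
      intro d hd
      change coeff d (G (n + k) + cor (n + k + 2) (G (n + k))) = _
      rw [map_add, ih d hd, hcor _ _ d (by omega), add_zero]
  let g : MvPowerSeries σ O := fun d => coeff d (G d.degree)
  have hg : ∀ n, ∀ d : σ →₀ ℕ, d.degree ≤ n + 1 → coeff d g = coeff d (G n) := by
    intro n d hd
    change coeff d (G d.degree) = _
    rcases le_total d.degree n with h | h
    · obtain ⟨k, hk⟩ := Nat.exists_eq_add_of_le h
      rw [hk, hstab _ k d (by omega)]
    · obtain ⟨k, hk⟩ := Nat.exists_eq_add_of_le h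
      rw [hk, hstab n k d hd]
  have hg0 : constantCoeff g = 0 := (hg 0 0 (by simp)).trans (hG0 0)
  refine ⟨g, ⟨hg0, fun i => ?_, ?_⟩, ?_⟩
  · rw [hg 0 _ (by simp)]
    change g1 (single i 1) = L i
    simp only [g1]
    have h : ∃ j, single i 1 = single j (1 : ℕ) := ⟨i, rfl⟩
    rw [dif_pos h, ← Finsupp.single_left_injective one_ne_zero h.choose_spec]
  · ext d
    rw [map_zero]
    set n := d.degree
    have h := E_add (π := π) hq2 (n := n + 2) (G (n + 1)) (g - G (n + 1)) (hG0 (n + 1))
      (by rw [map_sub, hg0, hG0 (n + 1), sub_zero])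
      (fun m hm => by rw [map_sub, hg (n + 1) m (by omega), sub_self]) d (by omega)
    rw [add_sub_cancel, hE (n + 1) d (by omega), map_sub, hg (n + 1) d (by omega), sub_self,
      mul_zero, add_zero] at h
    exact h
  · rintro g' ⟨h0', hL', hE'⟩
    ext d
    induction hn : d.degree using Nat.strong_induction_on generalizing d with
    | _ n ih =>
      rcases Nat.lt_or_ge n 2 with hn2 | hn2
      · rcases degree_le_one d (by omega) with rfl | ⟨i, rfl⟩
        · exact h0'.trans hg0.symm
        · rw [hL', hg 0 _ (by omega)]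
          change L i = g1 (single i 1)
          simp only [g1]
          have h : ∃ j, single i 1 = single j (1 : ℕ) := ⟨i, rfl⟩
          rw [dif_pos h, ← Finsupp.single_left_injective one_ne_zero h.choose_spec]
      · have h := E_add (π := π) hq2 (n := n) g (g' - g) hg0 (by rw [map_sub, h0', hg0, sub_zero])
          (fun m hm => by rw [map_sub, ih _ hm m rfl, sub_self]) d hn.le
        have hEg : coeff d (E π q g) = 0 := by
          have h' := E_add (π := π) hq2 (n := n + 2) (G (n + 1)) (g - G (n + 1)) (hG0 (n + 1))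
            (by rw [map_sub, hg0, hG0 (n + 1), sub_zero])
            (fun m hm => by rw [map_sub, hg (n + 1) m (by omega), sub_self]) d (by omega)
          rw [add_sub_cancel, hE (n + 1) d (by omega), map_sub, hg (n + 1) d (by omega), sub_self,
            mul_zero, add_zero] at h'
          exact h'
        rw [add_sub_cancel, hE', map_zero, hEg, zero_add, map_sub] at h
        have hne : π - π ^ n ≠ 0 := by
          obtain ⟨k, rfl⟩ := Nat.exists_eq_add_of_le hn2
          rw [show π - π ^ (2 + k) = π * (1 - π ^ (2 + k - 1)) by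
            rw [show 2 + k - 1 = k + 1 by omega]; ring]
          exact mul_ne_zero hπ.ne_zero (isUnit_one_sub hπ (by omega)).ne_zero
        exact sub_eq_zero.1 ((mul_eq_zero.1 h.symm).resolve_left hne)

omit [Finite (IsLocalRing.ResidueField O)] [IsDomain O] [IsDiscreteValuationRing O] in
/-- `G ∘ a` commutes with `f` when `G` and all `a i` do. -/
theorem E_subst_eq_zero {τ : Type*} [Finite τ] (hq : 2 ≤ q) (G : MvPowerSeries σ O)
    (a : σ → MvPowerSeries τ O) (hG : E π q G = 0) (ha0 : ∀ i, constantCoeff (a i) = 0)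
    (ha : ∀ i, E π q (a i) = 0) : E π q (MvPowerSeries.subst a G) = 0 := by
  have hs : HasSubst a := hasSubst_of_constantCoeff_zero ha0
  have h1 : HasSubst (aS (σ := σ) π q) := aS_hasSubst (by omega)
  have h2 : HasSubst (aS (σ := τ) π q) := aS_hasSubst (by omega)
  simp only [E, sub_eq_zero] at hG ha ⊢
  rw [subst_comp_subst_apply hs h2]
  have h3 : (fun i => MvPowerSeries.subst (aS π q) (a i)) =
      fun i => MvPowerSeries.subst a (aS π q i) := by
    funext i
    rw [← ha i, aS, subst_add hs, subst_smul hs, subst_pow hs, subst_X hs]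
  rw [h3, ← subst_comp_subst_apply h1 hs, ← hG, subst_add hs, subst_smul hs, subst_pow hs]

omit [Finite (IsLocalRing.ResidueField O)] [IsDomain O] [IsDiscreteValuationRing O] in
/-- linear coefficient of a substitution -/
theorem coeff_single_subst {τ : Type*} [Finite τ] [Fintype σ] (G : MvPowerSeries σ O)
    (a : σ → MvPowerSeries τ O) (hG0 : constantCoeff G = 0) (ha0 : ∀ i, constantCoeff (a i) = 0)
    (j : τ) :
    coeff (single j 1) (MvPowerSeries.subst a G) =
      ∑ i, coeff (single i 1) G * coeff (single j 1) (a i) := by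
  classical
  rw [coeff_subst (hasSubst_of_constantCoeff_zero ha0)]
  rw [finsum_eq_sum_of_support_subset _ (s := Finset.univ.image fun i : σ => single i 1) ?_]
  · rw [Finset.sum_image (fun x _ y _ h => Finsupp.single_left_injective one_ne_zero h)]
    refine Finset.sum_congr rfl fun i _ => ?_
    dsimp only
    rw [Finsupp.prod_single_index (h := fun s e => a s ^ e) (pow_zero (a i)), pow_one, smul_eq_mul]
  · intro m hm
    simp only [Function.mem_support] at hm
    have hdeg : m.degree ≤ 1 := by
      by_contra hgt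
      apply hm
      refine (congrArg (fun x => coeff m G • x) (coeff_of_lt_order ?_)).trans (smul_zero _)
      refine lt_of_lt_of_le ?_ (le_order_prod _ _)
      have h1 : (((single j 1 : τ →₀ ℕ).degree : ℕ) : ℕ∞) < ((m.degree : ℕ) : ℕ∞) :=
        Nat.cast_lt.2 (by rw [Finsupp.degree_single]; omega)
      refine lt_of_lt_of_le h1 ?_
      rw [show m.degree = ∑ i ∈ m.support, m i from rfl, Nat.cast_sum]
      exact Finset.sum_le_sum fun i _ => le_order_pow_of_constantCoeff_eq_zero _ (ha0 i)
    rcases degree_le_one m hdeg with rfl | ⟨i, rfl⟩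
    · simp [hG0] at hm
    · simp

theorem E_X (hq : q ≠ 0) (i : σ) : E π q (X i : MvPowerSeries σ O) = 0 := by
  rw [E, subst_X (aS_hasSubst hq), aS, sub_self]

end Groth.Agent.LubinTateLib
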