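import Mathlib
import Groth.Agent.LubinTateLib.Series

set_option autoImplicit false

namespace Groth.Agent.LubinTateLib

variable {O : Type*} [CommRing O] {σ : Type*} [Finite σ] {π : O} {q : ℕ} {f : PowerSeries O}

theorem subst_f (hf : f = π • PowerSeries.X + PowerSeries.X ^ q) (a : MvPowerSeries σ O)
    (ha : MvPowerSeries.constantCoeff a = 0) : PowerSeries.subst a f = π • a + a ^ q := by
  have h := PowerSeries.HasSubst.of_constantCoeff_zero ha
  rw [hf, PowerSeries.subst_add h, PowerSeries.subst_smul h, PowerSeries.subst_pow h,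
    PowerSeries.subst_X h]

theorem aS_eq (hf : f = π • PowerSeries.X + PowerSeries.X ^ q) :
    (fun i : σ => PowerSeries.subst (MvPowerSeries.X i : MvPowerSeries σ O) f) = aS π q := by
  funext i
  rw [subst_f hf _ (MvPowerSeries.constantCoeff_X i)]
  rfl

theorem E_iff (hf : f = π • PowerSeries.X + PowerSeries.X ^ q) (G : MvPowerSeries σ O)
    (hG : MvPowerSeries.constantCoeff G = 0) :
    E π q G = 0 ↔ PowerSeries.subst G f =
      MvPowerSeries.subst (fun i : σ => PowerSeries.subst (MvPowerSeries.X i : MvPowerSeries σ O) f) G := by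
  rw [E, sub_eq_zero, subst_f hf G hG, aS_eq hf]

theorem E_iff_one (hf : f = π • PowerSeries.X + PowerSeries.X ^ q) (g : PowerSeries O)
    (hg : g.constantCoeff = 0) :
    E (σ := Unit) π q g = 0 ↔ PowerSeries.subst g f = PowerSeries.subst f g := by
  rw [E, sub_eq_zero, subst_f hf g hg, PowerSeries.subst_def f g,
    show (fun _ : Unit => f) = aS π q from funext fun _ => hf]

end Groth.Agent.LubinTateLib
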